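import Mathlib
import Cfsg.Agent.UniqueSylow.Basic

/-!
A 2-element of a symmetric group lies in a single Sylow 2-subgroup exactly when it has at most two fixed
points and no two nontrivial cycles of the same length.
-/

namespace CfsgLib.PermSylowTwo

open Equiv Subgroup

variable {α : Type*} [Finite α]

/-- Length of the cycle of `x` through `c`. -/
noncomputable def len (x : Perm α) (c : α) : ℕ := Function.minimalPeriod (x • ·) c

/-- The orbit of `x` through `c`. -/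
def cyc (x : Perm α) (c : α) : Set α := {d | ∃ k : ℤ, (x ^ k) c = d}

theorem zpow_apply_eq_iff (x : Perm α) (c : α) (k : ℤ) : (x ^ k) c = c ↔ (len x c : ℤ) ∣ k :=
  MulAction.zpow_smul_eq_iff_minimalPeriod_dvd (a := x) (b := c)

theorem zpow_apply_congr {x : Perm α} {c : α} {j k : ℤ} : (x ^ j) c = (x ^ k) c ↔ (len x c : ℤ) ∣ j - k := by
  rw [← zpow_apply_eq_iff, show j - k = -k + j by ring, zpow_add, Perm.mul_apply, zpow_neg, Perm.inv_eq_iff_eq, eq_comm]

theorem len_dvd_orderOf (x : Perm α) (c : α) : len x c ∣ orderOf x := by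
  have := (zpow_apply_eq_iff x c (orderOf x : ℤ)).mp (by rw [zpow_natCast, pow_orderOf_eq_one]; rfl)
  exact_mod_cast this

theorem ncard_cyc (x : Perm α) (c : α) : (cyc x c).ncard = len x c := by
  classical
  have := Fintype.ofFinite α
  have e : cyc x c = MulAction.orbit (zpowers x) c := by
    ext d
    constructor
    · rintro ⟨k, rfl⟩; exact ⟨⟨x ^ k, k, rfl⟩, rfl⟩
    · rintro ⟨⟨-, k, rfl⟩, rfl⟩; exact ⟨k, rfl⟩
  rw [e, len, MulAction.minimalPeriod_eq_card, Set.ncard_eq_toFinset_card', Set.toFinset_card]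

theorem self_mem_cyc (x : Perm α) (c : α) : c ∈ cyc x c := ⟨0, rfl⟩

theorem len_pos (x : Perm α) (c : α) : 0 < len x c :=
  ncard_cyc x c ▸ (Set.ncard_pos (Set.toFinite _)).mpr ⟨c, self_mem_cyc x c⟩

theorem cyc_eq_of_mem {x : Perm α} {c d : α} (h : d ∈ cyc x c) : cyc x d = cyc x c := by
  obtain ⟨k, rfl⟩ := h
  ext e
  constructor
  · rintro ⟨j, rfl⟩; exact ⟨j + k, by rw [zpow_add, Perm.mul_apply]⟩
  · rintro ⟨j, rfl⟩; exact ⟨j - k, by rw [← Perm.mul_apply, ← zpow_add, sub_add_cancel]⟩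

theorem len_eq_of_mem {x : Perm α} {c d : α} (h : d ∈ cyc x c) : len x d = len x c := by
  rw [← ncard_cyc, cyc_eq_of_mem h, ncard_cyc]

theorem len_le_of_invariant {x : Perm α} {S : Set α} (hS : ∀ k : ℤ, ∀ d ∈ S, (x ^ k) d ∈ S) {c : α} (hc : c ∈ S) :
    len x c ≤ S.ncard := by
  rw [← ncard_cyc]
  refine Set.ncard_le_ncard ?_ (Set.toFinite S)
  rintro d ⟨k, rfl⟩; exact hS k c hc

theorem eq_cyc_of_invariant {x : Perm α} {S : Set α} (hS : ∀ k : ℤ, ∀ d ∈ S, (x ^ k) d ∈ S) {c : α} (hc : c ∈ S)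
    (hl : S.ncard ≤ len x c) : S = cyc x c :=
  (Set.eq_of_subset_of_ncard_le (by rintro d ⟨k, rfl⟩; exact hS k c hc) (by rwa [ncard_cyc]) (Set.toFinite S)).symm

/-- At most two fixed points, distinct nontrivial cycle lengths, all powers of two. -/
structure Good (x : Perm α) : Prop where
  two_pow : ∀ c, ∃ m, len x c = 2 ^ m
  cyc_eq : ∀ c d, 2 ≤ len x c → len x d = len x c → d ∈ cyc x c
  fixed : {c | len x c = 1}.ncard ≤ 2

variable {x : Perm α}

theorem ncard_big (h : Good x) : ∀ m, 1 ≤ m → {c | 2 ≤ len x c ∧ len x c < 2 ^ m}.ncard + 2 ≤ 2 ^ m := by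
  intro m hm
  induction m, hm using Nat.le_induction with
  | base =>
    have : {c | 2 ≤ len x c ∧ len x c < 2 ^ 1} = ∅ := by
      ext c; simp; omega
    rw [this, Set.ncard_empty]; norm_num
  | succ m hm ih =>
    have hsub : {c | 2 ≤ len x c ∧ len x c < 2 ^ (m + 1)} ⊆
        {c | 2 ≤ len x c ∧ len x c < 2 ^ m} ∪ {c | len x c = 2 ^ m} := by
      rintro c ⟨h1, h2⟩
      obtain ⟨j, hj⟩ := h.two_pow c
      rw [hj] at h2
      have := (Nat.pow_lt_pow_iff_right (by norm_num : 1 < 2)).mp h2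
      rcases (show j < m ∨ j = m by omega) with hlt | rfl
      · exact Or.inl ⟨h1, hj ▸ Nat.pow_lt_pow_right (by norm_num) hlt⟩
      · exact Or.inr hj
    have hone : {c | len x c = 2 ^ m}.ncard ≤ 2 ^ m := by
      rcases Set.eq_empty_or_nonempty {c | len x c = 2 ^ m} with he | ⟨c, hc⟩
      · rw [he, Set.ncard_empty]; exact Nat.zero_le _
      · refine le_of_le_of_eq (Set.ncard_le_ncard (fun d hd => h.cyc_eq c d ?_ (hd.trans hc.symm)) (Set.toFinite _))
          ((ncard_cyc x c).trans hc)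
        rw [show len x c = 2 ^ m from hc]
        exact le_trans (by norm_num) (Nat.pow_le_pow_right two_pos hm)
    have := (Set.ncard_le_ncard hsub (Set.toFinite _)).trans (Set.ncard_union_le _ _)
    have e2 : 2 ^ (m + 1) = 2 * 2 ^ m := by ring
    omega

theorem ncard_rest (h : Good x) (m : ℕ) : {c | len x c < 2 ^ m}.ncard ≤ 2 ^ m := by
  rcases Nat.eq_zero_or_pos m with rfl | hm
  · have : {c | len x c < 2 ^ 0} = ∅ := by ext c; simp; have := len_pos x c; omega
    rw [this, Set.ncard_empty]; exact Nat.zero_le _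
  · have hsub : {c | len x c < 2 ^ m} ⊆ {c | 2 ≤ len x c ∧ len x c < 2 ^ m} ∪ {c | len x c = 1} := by
      intro c hc
      have := len_pos x c
      rcases (show len x c = 1 ∨ 2 ≤ len x c by omega) with e | e
      · exact Or.inr e
      · exact Or.inl ⟨e, hc⟩
    have := (Set.ncard_le_ncard hsub (Set.toFinite _)).trans (Set.ncard_union_le _ _)
    have := ncard_big h m hm
    have := h.fixed
    omega

/-- The classes of size `2 ^ i`: pieces of long cycles, and all points on shorter cycles. -/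
def Rel (x : Perm α) (i : ℕ) (c d : α) : Prop :=
  (len x c < 2 ^ i ∧ len x d < 2 ^ i) ∨
    (2 ^ i ≤ len x c ∧ ∃ k : ℤ, (x ^ (k * ((len x c / 2 ^ i : ℕ) : ℤ))) c = d)

theorem Rel.len {i : ℕ} {c d : α} (h : Rel x i c d) (hc : 2 ^ i ≤ PermSylowTwo.len x c) :
    PermSylowTwo.len x d = PermSylowTwo.len x c := by
  rcases h with ⟨h1, -⟩ | ⟨-, k, hk⟩
  · omega
  · exact len_eq_of_mem ⟨_, hk⟩

theorem Rel.symm {i : ℕ} {c d : α} (h : Rel x i c d) : Rel x i d c := by
  rcases h with ⟨h1, h2⟩ | ⟨h1, k, hk⟩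
  · exact Or.inl ⟨h2, h1⟩
  · have hl : PermSylowTwo.len x d = PermSylowTwo.len x c := len_eq_of_mem ⟨_, hk⟩
    refine Or.inr ⟨hl ▸ h1, -k, ?_⟩
    rw [hl, ← hk, ← Perm.mul_apply, ← zpow_add, neg_mul, neg_add_cancel, zpow_zero, Perm.one_apply]

theorem Rel.trans {i : ℕ} {c d e : α} (h : Rel x i c d) (h' : Rel x i d e) : Rel x i c e := by
  rcases h with ⟨h1, h2⟩ | ⟨h1, k, hk⟩
  · rcases h' with ⟨-, h3⟩ | ⟨h3, -⟩
    · exact Or.inl ⟨h1, h3⟩
    · omega
  · have hl : PermSylowTwo.len x d = PermSylowTwo.len x c := len_eq_of_mem ⟨_, hk⟩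
    rcases h' with ⟨h3, -⟩ | ⟨-, j, hj⟩
    · omega
    · refine Or.inr ⟨h1, j + k, ?_⟩
      rw [add_mul, zpow_add, Perm.mul_apply, hk, ← hl, hj]

theorem rel_refl (x : Perm α) (i : ℕ) (c : α) : Rel x i c c := by
  by_cases h : PermSylowTwo.len x c < 2 ^ i
  · exact Or.inl ⟨h, h⟩
  · exact Or.inr ⟨by omega, 0, by simp⟩

theorem block_eq (h : Good x) {P : Subgroup (Perm α)} (hx : x ∈ P) (hord : ∃ n, orderOf x = 2 ^ n)
    {B : Set α} {i : ℕ} (hB : ∀ g ∈ P, ∀ b ∈ B, g b ∈ B → ∀ b' ∈ B, g b' ∈ B) (hcard : B.ncard = 2 ^ i)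
    {c : α} (hc : c ∈ B) (p : α) : p ∈ B ↔ Rel x i c p := by
  classical
  obtain ⟨n, hn⟩ := hord
  have hstab : ∀ {k : ℤ}, (x ^ k) c ∈ B → ∀ b ∈ B, (x ^ k) b ∈ B := fun {k} hk b hb =>
    hB _ (zpow_mem hx k) c hc hk b hb
  have hback : ∀ {k : ℤ} {b : α}, b ∈ B → (x ^ k) b ∈ B → (x ^ k) c ∈ B := fun {k b} hb hk =>
    hB _ (zpow_mem hx k) b hb hk c hc
  let Z : AddSubgroup ℤ :=
    { carrier := {k | (x ^ k) c ∈ B}
      zero_mem' := by simpa using hc
      add_mem' := fun {a b} ha hb => by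
        show (x ^ (a + b)) c ∈ B
        rw [zpow_add, Perm.mul_apply]; exact hstab ha _ hb
      neg_mem' := fun {a} ha => by
        show (x ^ (-a)) c ∈ B
        exact hback (k := -a) ha (by rw [← Perm.mul_apply, ← zpow_add, neg_add_cancel, zpow_zero]; exact hc) }
  obtain ⟨z, hz⟩ := Int.subgroup_cyclic Z
  set d := z.natAbs with hd
  have hmem : ∀ k : ℤ, (x ^ k) c ∈ B ↔ (d : ℤ) ∣ k := by
    intro k
    rw [hd, Int.natAbs_dvd, ← Int.mem_zmultiples_iff, AddSubgroup.zmultiples_eq_closure, ← hz]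
    rfl
  obtain ⟨r, -, hr⟩ : ∃ r ≤ n, d = 2 ^ r := (Nat.dvd_prime_pow Nat.prime_two).mp (by
    have : (d : ℤ) ∣ (2 ^ n : ℕ) := (hmem _).mp (by rw [zpow_natCast, ← hn, pow_orderOf_eq_one]; exact hc)
    exact_mod_cast this)
  have hdvd : ∀ b ∈ B, d ∣ len x b := by
    intro b hb
    have : (d : ℤ) ∣ (len x b : ℤ) := (hmem _).mp (hback hb (by rwa [(zpow_apply_eq_iff x b _).mpr dvd_rfl]))
    exact_mod_cast this
  let f : Fin d × B → α := fun v => (x ^ ((v.1 : ℕ) : ℤ)) v.2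
  have hinj : Function.Injective f := by
    rintro ⟨⟨j, hj⟩, ⟨b, hb⟩⟩ ⟨⟨j', hj'⟩, ⟨b', hb'⟩⟩ e
    have e1 : (x ^ (-(j' : ℤ) + j)) b = b' := by
      rw [zpow_add, Perm.mul_apply, show (x ^ (j : ℤ)) b = (x ^ (j' : ℤ)) b' from e, ← Perm.mul_apply, ← zpow_add,
        neg_add_cancel, zpow_zero, Perm.one_apply]
    have h2 := Int.eq_zero_of_abs_lt_dvd ((hmem _).mp (hback hb (e1.symm ▸ hb'))) (by rw [abs_lt]; omega)
    have hjj : j = j' := by omega
    subst hjj
    exact Prod.ext rfl (Subtype.ext ((x ^ (j : ℤ)).injective e))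
  set S := Set.range f with hS
  have hScard : S.ncard = 2 ^ (i + r) := by
    rw [hS, Set.ncard_range_of_injective hinj, Nat.card_prod, Nat.card_fin, Nat.card_coe_set_eq, hcard, hr,
      ← pow_add, add_comm]
  have hdpos : 0 < d := hr ▸ pow_pos two_pos r
  have hSmem : ∀ q, q ∈ S ↔ ∃ k : ℤ, ∃ b ∈ B, (x ^ k) b = q := by
    intro q
    constructor
    · rintro ⟨⟨j, b⟩, rfl⟩; exact ⟨_, b, b.2, rfl⟩
    · rintro ⟨k, b, hb, rfl⟩
      have hd0 : (d : ℤ) ≠ 0 := by omega
      have h0 := Int.emod_nonneg k hd0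
      have h1 := Int.emod_lt_of_pos k (show (0 : ℤ) < d by omega)
      refine ⟨(⟨(k % d).toNat, by omega⟩,
        ⟨(x ^ ((d : ℤ) * (k / d))) b, hstab ((hmem _).mpr (dvd_mul_right _ _)) b hb⟩), ?_⟩
      simp only [f]
      rw [← Perm.mul_apply, ← zpow_add, Int.toNat_of_nonneg h0, Int.emod_add_mul_ediv]
  have hSinv : ∀ k : ℤ, ∀ q ∈ S, (x ^ k) q ∈ S := by
    intro k q hq
    obtain ⟨j, b, hb, rfl⟩ := (hSmem q).mp hq
    exact (hSmem _).mpr ⟨k + j, b, hb, by rw [zpow_add, Perm.mul_apply]⟩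
  have hcS : c ∈ S := (hSmem c).mpr ⟨0, c, hc, rfl⟩
  by_cases hone : ∃ q ∈ S, 2 ^ (i + r) ≤ len x q
  · obtain ⟨q, hq, hql⟩ := hone
    have hSq : S = cyc x q := eq_cyc_of_invariant hSinv hq (hScard.le.trans hql)
    have hcq : c ∈ cyc x q := hSq ▸ hcS
    have hlc : len x c = 2 ^ (i + r) := by rw [len_eq_of_mem hcq, ← ncard_cyc, ← hSq, hScard]
    have hScyc : S = cyc x c := hSq.trans (cyc_eq_of_mem hcq).symm
    have hle : 2 ^ i ≤ len x c := hlc ▸ Nat.pow_le_pow_right two_pos (Nat.le_add_right i r)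
    have hq2 : len x c / 2 ^ i = d := by rw [hlc, pow_add, Nat.mul_div_cancel_left _ (pow_pos two_pos i), hr]
    constructor
    · intro hp
      obtain ⟨k, hk⟩ : p ∈ cyc x c := hScyc ▸ (hSmem p).mpr ⟨0, p, hp, rfl⟩
      obtain ⟨m, hm⟩ := (hmem k).mp (hk ▸ hp)
      exact Or.inr ⟨hle, m, by rw [hq2, mul_comm, ← hm, hk]⟩
    · rintro (⟨h1, -⟩ | ⟨-, k, rfl⟩)
      · omega
      · rw [hq2]; exact (hmem _).mpr (dvd_mul_left _ _)
  · push Not at hone
    rcases Nat.eq_zero_or_pos r with rfl | hr0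
    · simp only [add_zero] at hone hScard
      have hSB : S ⊆ B := by
        intro q hq
        obtain ⟨k, b, hb, rfl⟩ := (hSmem q).mp hq
        exact hstab ((hmem k).mpr (by rw [hr, pow_zero]; exact one_dvd _)) b hb
      have hBS : S = B := Set.eq_of_subset_of_ncard_le hSB (by rw [hScard, hcard]) (Set.toFinite B)
      have hrest : S = {q | len x q < 2 ^ i} :=
        Set.eq_of_subset_of_ncard_le hone (hScard.symm ▸ ncard_rest h i) (Set.toFinite _)
      have hcl : len x c < 2 ^ i := hone c hcS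
      rw [← hBS, hrest]
      constructor
      · exact fun hp => Or.inl ⟨hcl, hp⟩
      · rintro (⟨-, h2⟩ | ⟨h1, -⟩)
        · exact h2
        · omega
    · exfalso
      have hsub : S ⊆ {q | 2 ≤ len x q ∧ len x q < 2 ^ (i + r)} := by
        intro q hq
        obtain ⟨k, b, hb, e⟩ := (hSmem q).mp hq
        refine ⟨?_, hone q hq⟩
        rw [len_eq_of_mem (x := x) (c := b) ⟨k, e⟩]
        exact le_trans (hr ▸ le_trans (by norm_num) (Nat.pow_le_pow_right two_pos hr0))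
          (Nat.le_of_dvd (len_pos x b) (hdvd b hb))
      have h1 := Set.ncard_le_ncard hsub (Set.toFinite _)
      have h2 := ncard_big h (i + r) (by omega)
      omega

theorem rel_of_mem (h : Good x) {P : Subgroup (Perm α)} (hP : IsPGroup 2 P) (hx : x ∈ P) {g : Perm α} (hg : g ∈ P)
    {i : ℕ} {a b : α} (hab : Rel x i a b) : Rel x i (g a) (g b) := by
  classical
  have hord : ∃ n, orderOf x = 2 ^ n := by
    obtain ⟨n, hn⟩ := IsPGroup.iff_orderOf.mp hP ⟨x, hx⟩
    exact ⟨n, by rwa [Subgroup.orderOf_mk] at hn⟩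
  let O : α → Set α := fun c => {d | ∃ m ∈ P, m c = d}
  have hOinv : ∀ c, ∀ k : ℤ, ∀ d ∈ O c, (x ^ k) d ∈ O c := by
    rintro c k d ⟨m, hm, rfl⟩
    exact ⟨x ^ k * m, mul_mem (zpow_mem hx k) hm, rfl⟩
  have hOeq : ∀ {c d}, d ∈ O c → O d = O c := by
    rintro c - ⟨m, hm, rfl⟩
    ext e
    constructor
    · rintro ⟨m', hm', rfl⟩; exact ⟨m' * m, mul_mem hm' hm, rfl⟩
    · rintro ⟨m', hm', rfl⟩; exact ⟨m' * m⁻¹, mul_mem hm' (inv_mem hm), by rw [Perm.mul_apply, Perm.inv_eq_iff_eq.mpr rfl]⟩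
  have hblock : ∀ c, 2 ^ i ≤ (O c).ncard → ∃ B : Set α, c ∈ B ∧ B ⊆ O c ∧ B.ncard = 2 ^ i ∧
      ∀ g ∈ P, ∀ b ∈ B, g b ∈ B → ∀ b' ∈ B, g b' ∈ B := by
    intro c hc
    let H : Subgroup P := MulAction.stabilizer P c
    obtain ⟨n, hn⟩ := IsPGroup.iff_card.mp (hP.to_subgroup H)
    obtain ⟨N, hN⟩ := IsPGroup.iff_card.mp hP
    have hidx : H.index = (O c).ncard := by
      rw [MulAction.index_stabilizer]
      congr 1
      ext d
      constructor
      · rintro ⟨m, rfl⟩; exact ⟨m, m.2, rfl⟩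
      · rintro ⟨m, hm, rfl⟩; exact ⟨⟨m, hm⟩, rfl⟩
    have hle : n + i ≤ N := by
      rw [← Nat.pow_le_pow_iff_right (by norm_num : 1 < 2), pow_add, ← hn, ← hN, ← H.card_mul_index, hidx]
      exact Nat.mul_le_mul_left _ hc
    obtain ⟨K, hK, hHK⟩ := Sylow.exists_subgroup_card_pow_prime_le 2 (m := n + i)
      (hN ▸ pow_dvd_pow 2 hle) H hn (Nat.le_add_right _ _)
    refine ⟨{d | ∃ m ∈ K, ((m : Perm α)) c = d}, ⟨1, one_mem _, rfl⟩, ?_, ?_, ?_⟩
    · rintro d ⟨m, -, rfl⟩; exact ⟨m, m.2, rfl⟩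
    · have h2 : (MulAction.stabilizer K c).index = 2 ^ i := by
        have e : MulAction.stabilizer K c = H.subgroupOf K := by ext m; rfl
        have h3 := (H.subgroupOf K).card_mul_index
        rw [Nat.card_congr (subgroupOfEquivOfLe hHK).toEquiv, hn, hK, pow_add] at h3
        rw [e]
        exact Nat.eq_of_mul_eq_mul_left (pow_pos two_pos n) h3
      rw [← h2, MulAction.index_stabilizer]
      congr 1
      ext d
      constructor
      · rintro ⟨m, hm, rfl⟩; exact ⟨⟨m, hm⟩, rfl⟩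
      · rintro ⟨m, rfl⟩; exact ⟨m, m.2, rfl⟩
    · rintro g hg _ ⟨m, hm, rfl⟩ ⟨m', hm', e⟩ _ ⟨m'', hm'', rfl⟩
      have hst : m'⁻¹ * (⟨g, hg⟩ * m) ∈ H := by
        show ((m'⁻¹ * (⟨g, hg⟩ * m) : P) : Perm α) c = c
        simp only [Subgroup.coe_mul, Subgroup.coe_inv, Perm.mul_apply]
        rw [Perm.inv_eq_iff_eq, e]
      have hgK : (⟨g, hg⟩ : P) ∈ K := by
        have := mul_mem (mul_mem hm' (hHK hst)) (inv_mem hm)
        simpa [mul_assoc] using this
      exact ⟨⟨g, hg⟩ * m'', mul_mem hgK hm'', rfl⟩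
  by_cases hbig : 2 ^ i ≤ (O a).ncard
  · obtain ⟨B, haB, -, hBc, hB⟩ := hblock a hbig
    have hbB : b ∈ B := (block_eq h hx hord hB hBc haB b).mpr hab
    refine (block_eq h hx hord (B := g '' B) ?_ (by rw [Set.ncard_image_of_injective _ g.injective, hBc])
      (Set.mem_image_of_mem g haB) (g b)).mp (Set.mem_image_of_mem g hbB)
    rintro u hu - ⟨p, hp, rfl⟩ ⟨q, hq, e⟩ - ⟨p', hp', rfl⟩
    refine ⟨(g⁻¹ * u * g) p', hB _ (mul_mem (mul_mem (inv_mem hg) hu) hg) p hp ?_ p' hp', ?_⟩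
    · rw [Perm.mul_apply, Perm.mul_apply, ← e, Perm.inv_eq_iff_eq.mpr rfl]; exact hq
    · simp
  · push Not at hbig
    have hsmall : ∀ c, (O c).ncard < 2 ^ i → ∀ d ∈ O c, len x d < 2 ^ i :=
      fun c hc d hd => lt_of_le_of_lt (len_le_of_invariant (hOinv c) hd) hc
    have ha : len x a < 2 ^ i := hsmall a hbig a ⟨1, one_mem _, rfl⟩
    have hb : len x b < 2 ^ i := by
      rcases hab with ⟨-, h2⟩ | ⟨h1, -⟩
      · exact h2
      · omega
    refine Or.inl ⟨hsmall a hbig _ ⟨g, hg, rfl⟩, ?_⟩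
    by_cases hbb : 2 ^ i ≤ (O b).ncard
    · obtain ⟨B, hbB, hBO, hBc, hB⟩ := hblock b hbb
      have := hOeq (hBO ((block_eq h hx hord hB hBc hbB a).mpr (Or.inl ⟨hb, ha⟩)))
      rw [this] at hbig
      omega
    · exact hsmall b (not_le.mp hbb) _ ⟨g, hg, rfl⟩

/-- Permutations preserving all the relations. -/
def relAut (x : Perm α) : Subgroup (Perm α) where
  carrier := {g | ∀ i a b, Rel x i (g a) (g b) ↔ Rel x i a b}
  one_mem' := by intros i a b; rfl
  mul_mem' := fun {g g'} hg hg' i a b => by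
    rw [Perm.mul_apply, Perm.mul_apply, hg i, hg' i]
  inv_mem' := fun {g} hg i a b => by
    simpa using (hg i (g⁻¹ a) (g⁻¹ b)).symm

theorem le_relAut (h : Good x) {P : Subgroup (Perm α)} (hP : IsPGroup 2 P) (hx : x ∈ P) : P ≤ relAut x :=
  fun g hg _ a b => ⟨fun hr => by
    have := rel_of_mem h hP hx (inv_mem hg) hr
    simpa using this, fun hr => rel_of_mem h hP hx hg hr⟩

theorem rel_two (h : Good x) {i : ℕ} {a b c : α} (hb : Rel x (i + 1) a b) (hc : Rel x (i + 1) a c) :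
    Rel x i a b ∨ Rel x i a c ∨ Rel x i b c := by
  have hsucc : 2 ^ (i + 1) = 2 * 2 ^ i := by ring
  by_cases hl : 2 ^ (i + 1) ≤ len x a
  · obtain ⟨m, hm⟩ := h.two_pow a
    have him : i + 1 ≤ m := (Nat.pow_le_pow_iff_right (by norm_num : 1 < 2)).mp (hm ▸ hl)
    have hlb := hb.len hl
    have hq : ((len x a / 2 ^ i : ℕ) : ℤ) = 2 * ((len x a / 2 ^ (i + 1) : ℕ) : ℤ) := by
      have : len x a / 2 ^ i = 2 * (len x a / 2 ^ (i + 1)) := by
        rw [hm, Nat.pow_div (by omega) two_pos, Nat.pow_div him two_pos, ← pow_succ']; congr 1; omega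
      exact_mod_cast this
    rcases hb with ⟨h1, -⟩ | ⟨-, j, hj⟩
    · omega
    rcases hc with ⟨h1, -⟩ | ⟨-, k, hk⟩
    · omega
    rcases Int.even_or_odd j with ⟨j', rfl⟩ | ⟨j', rfl⟩
    · exact Or.inl (Or.inr ⟨by omega, j', by rw [hq, ← hj]; ring_nf⟩)
    rcases Int.even_or_odd k with ⟨k', rfl⟩ | ⟨k', rfl⟩
    · exact Or.inr (Or.inl (Or.inr ⟨by omega, k', by rw [hq, ← hk]; ring_nf⟩))
    refine Or.inr (Or.inr (Or.inr ⟨by omega, k' - j', ?_⟩))
    rw [hlb, hq, ← hj, ← hk, ← Perm.mul_apply, ← zpow_add]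
    ring_nf
  · rcases hb with ⟨ha, hb⟩ | ⟨h1, -⟩
    swap
    · omega
    rcases hc with ⟨-, hc⟩ | ⟨h1, -⟩
    swap
    · omega
    by_cases sa : len x a < 2 ^ i
    · by_cases sb : len x b < 2 ^ i
      · exact Or.inl (Or.inl ⟨sa, sb⟩)
      by_cases sc : len x c < 2 ^ i
      · exact Or.inr (Or.inl (Or.inl ⟨sa, sc⟩))
      exact Or.inr (Or.inr (eq_top_len h hb hc sb sc sa))
    · by_cases sb : len x b < 2 ^ i
      · by_cases sc : len x c < 2 ^ i
        · exact Or.inr (Or.inr (Or.inl ⟨sb, sc⟩))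
        exact Or.inr (Or.inl (eq_top_len h ha hc sa sc sb))
      by_cases sc : len x c < 2 ^ i
      · exact Or.inl (eq_top_len h ha hb sa sb sc)
      rcases Nat.eq_zero_or_pos i with rfl | hi
      · have hfix : ∀ q, len x q < 2 ^ (0 + 1) → q ∈ {q | len x q = 1} := by
          intro q hq
          have := len_pos x q
          simp at hq ⊢; omega
        by_contra hall
        simp only [not_or] at hall
        have hab : a ≠ b := fun e => hall.1 (e ▸ rel_refl x 0 a)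
        have hac : a ≠ c := fun e => hall.2.1 (e ▸ rel_refl x 0 a)
        have hbc : b ≠ c := fun e => hall.2.2 (e ▸ rel_refl x 0 b)
        have h3 : ({a, b, c} : Set α).ncard ≤ 2 := le_trans (Set.ncard_le_ncard (by
          simp only [Set.insert_subset_iff, Set.singleton_subset_iff]
          exact ⟨hfix a ha, hfix b hb, hfix c hc⟩) (Set.toFinite _)) h.fixed
        rw [Set.ncard_eq_three.mpr ⟨a, b, c, hab, hac, hbc, rfl⟩] at h3
        omega
      · exact Or.inl (same_top h hi ha hb sa sb)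
where
  same_top {x : Perm α} (h : Good x) {i : ℕ} (hi : 0 < i) {p q : α} (hp : len x p < 2 ^ (i + 1))
      (hq : len x q < 2 ^ (i + 1)) (sp : ¬ len x p < 2 ^ i) (sq : ¬ len x q < 2 ^ i) : Rel x i p q := by
    have key : ∀ r, len x r < 2 ^ (i + 1) → ¬ len x r < 2 ^ i → len x r = 2 ^ i := by
      intro r h1 h2
      obtain ⟨m, hm⟩ := h.two_pow r
      rw [hm] at h1 h2 ⊢
      have := (Nat.pow_lt_pow_iff_right (by norm_num : 1 < 2)).mp h1
      have : ¬ m < i := fun hlt => h2 (Nat.pow_lt_pow_right (by norm_num) hlt)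
      congr 1; omega
    have e1 := key p hp sp
    have e2 := key q hq sq
    obtain ⟨k, hk⟩ := h.cyc_eq p q (e1 ▸ le_trans (by norm_num) (Nat.pow_le_pow_right two_pos hi)) (e2.trans e1.symm)
    exact Or.inr ⟨e1.ge, k, by rw [e1, Nat.div_self (pow_pos two_pos i)]; simpa using hk⟩
  eq_top_len {x : Perm α} (h : Good x) {i : ℕ} {p q w : α} (hp : len x p < 2 ^ (i + 1))
      (hq : len x q < 2 ^ (i + 1)) (sp : ¬ len x p < 2 ^ i) (sq : ¬ len x q < 2 ^ i) (sw : len x w < 2 ^ i) :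
      Rel x i p q := by
    refine same_top h ?_ hp hq sp sq
    by_contra hi
    rw [Nat.eq_zero_of_not_pos hi] at sw
    have := len_pos x w
    simp at sw
    omega

theorem rel_zero {a b : α} (h : Rel x 0 a b) : a = b := by
  rcases h with ⟨h1, -⟩ | ⟨-, k, hk⟩
  · have := len_pos x a; simp at h1; omega
  · rw [← hk, eq_comm, pow_zero, Nat.div_one, zpow_apply_eq_iff]
    exact dvd_mul_left _ _

theorem isPGroup_relAut (h : Good x) : IsPGroup 2 (relAut x) := by
  classical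
  have := Fintype.ofFinite α
  refine IsPGroup.of_card (n := (Nat.card (relAut x)).primeFactorsList.length)
    (Nat.eq_prime_pow_of_unique_prime_dvd Nat.card_pos.ne' fun {r} hr hrd => ?_)
  by_contra hr2
  have : Fact r.Prime := ⟨hr⟩
  obtain ⟨⟨g, hg⟩, hgo⟩ := exists_prime_orderOf_dvd_card' r hrd
  rw [Subgroup.orderOf_mk] at hgo
  obtain ⟨m, hm⟩ := hr.odd_of_ne_two hr2
  have hall : ∀ j i a, i + j = Fintype.card α → Rel x i a (g a) := by
    intro j
    induction j with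
    | zero =>
      intro i a hi
      have hlt : ∀ c, len x c < 2 ^ i := fun c => by
        refine lt_of_le_of_lt ?_ (Nat.lt_two_pow_self (n := i))
        rw [← ncard_cyc, show i = Fintype.card α by omega, ← Nat.card_eq_fintype_card]
        exact Set.ncard_le_card _
      exact Or.inl ⟨hlt _, hlt _⟩
    | succ j ih =>
      intro i a hi
      by_contra hne
      have hsq : ∀ b, Rel x i b (g b) ∨ Rel x i b (g (g b)) := fun b => by
        rcases rel_two h (ih (i + 1) b (by omega)) ((ih (i + 1) b (by omega)).trans (ih (i + 1) (g b) (by omega)))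
          with e | e | e
        · exact Or.inl e
        · exact Or.inr e
        · exact Or.inl ((hg i b (g b)).mp e)
      have hev : ∀ k : ℕ, Rel x i a ((g ^ (2 * k)) a) := by
        intro k
        induction k with
        | zero => exact rel_refl x i a
        | succ k ihk =>
          have hb : ¬ Rel x i ((g ^ (2 * k)) a) (g ((g ^ (2 * k)) a)) := by
            intro e
            rw [← Perm.mul_apply, ← pow_succ', pow_succ, Perm.mul_apply] at e
            exact hne ((((relAut x).pow_mem hg (2 * k)) i a (g a)).mp e)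
          refine ihk.trans ?_
          rw [show 2 * (k + 1) = 2 + 2 * k by ring, pow_add, Perm.mul_apply, sq, Perm.mul_apply]
          exact (hsq _).resolve_left hb
      apply hne
      have := hev (m + 1)
      rwa [show 2 * (m + 1) = r + 1 by omega, pow_succ, ← hgo, pow_orderOf_eq_one, one_mul] at this
  have hg1 : g = 1 := Equiv.ext fun a => (rel_zero (hall (Fintype.card α) 0 a (by simp))).symm
  rw [hg1, orderOf_one] at hgo
  exact hr.ne_one hgo.symm

theorem existsUnique_of_good (h : Good x) (hx : IsPGroup 2 (zpowers x)) : ∃! P : Sylow 2 (Perm α), x ∈ P := by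
  obtain ⟨P, hP⟩ := hx.exists_le_sylow
  refine ⟨P, hP (mem_zpowers x), fun Q hQ => Sylow.ext ?_⟩
  have h1 := P.3 (isPGroup_relAut h) (le_relAut h P.2 (hP (mem_zpowers x)))
  have h2 := Q.3 (isPGroup_relAut h) (le_relAut h Q.2 hQ)
  rw [← h1, ← h2]

end CfsgLib.PermSylowTwo
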