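import Mathlib
import Cfsg.Agent.PermSylowTwo.Basic

/-!
The converse: repeated cycle lengths or three fixed points give a second Sylow 2-subgroup.
-/

namespace CfsgLib.PermSylowTwo

open Equiv Subgroup

variable {α : Type*} [Fintype α] [DecidableEq α] {x : Perm α}

theorem mem_of_commute {P : Sylow 2 (Perm α)} (hP : x ∈ P) (hu : ∀ Q : Sylow 2 (Perm α), x ∈ Q → Q = P)
    {y : Perm α} (hy : IsPGroup 2 (zpowers y)) (hc : y * x = x * y) : y ∈ (P : Subgroup (Perm α)) := by
  refine UniqueSylow.mem_sylow_of_normalizes hy P (Sylow.smul_eq_iff_mem_normalizer.mp (hu _ ?_))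
  show x ∈ ((y • P : Sylow 2 (Perm α)) : Subgroup (Perm α))
  rw [Sylow.coe_subgroup_smul, show x = MulAut.conj y x by rw [MulAut.conj_apply, hc, mul_inv_cancel_right]]
  exact smul_mem_pointwise_smul _ (MulAut.conj y) _ hP

theorem isPGroup_zpowers_of_sq {y : Perm α} (h : y * y = 1) : IsPGroup 2 (zpowers y) :=
  IsPGroup.of_card_dvd_pow (n := 1) (by
    rw [Nat.card_zpowers, pow_one]; exact orderOf_dvd_of_pow_eq_one (by rw [sq, h]))

theorem not_unique_of_fixed {a b c : α} (hab : a ≠ b) (hac : a ≠ c) (hbc : b ≠ c) (ha : x a = a) (hb : x b = b)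
    (hc : x c = c) : ¬ ∃! P : Sylow 2 (Perm α), x ∈ P := by
  rintro ⟨P, hP, hu⟩
  have hsw : ∀ {p q : α}, x p = p → x q = q → swap p q ∈ (P : Subgroup (Perm α)) := fun {p q} hp hq =>
    mem_of_commute hP hu (isPGroup_zpowers_of_sq (swap_mul_self p q))
      (by rw [Equiv.mul_swap_eq_swap_mul, hp, hq])
  have h3 := Perm.isThreeCycle_swap_mul_swap_same hab hac hbc
  obtain ⟨k, hk⟩ := IsPGroup.iff_orderOf.mp P.2 ⟨_, mul_mem (hsw ha hb) (hsw ha hc)⟩
  rw [Subgroup.orderOf_mk, h3.orderOf] at hk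
  have : 3 ∣ 2 ^ k := hk ▸ dvd_rfl
  exact absurd (Nat.prime_three.dvd_of_dvd_pow this) (by norm_num)

theorem cycleOf_facts {c : α} (hc : x c ≠ c) :
    ((x.cycleOf c).support : Set α) = cyc x c ∧ (x.cycleOf c).support.card = len x c := by
  have e : ((x.cycleOf c).support : Set α) = cyc x c := by
    ext d
    rw [Finset.mem_coe, Perm.mem_support_cycleOf_iff]
    exact ⟨fun h => h.1, fun h => ⟨h, Perm.mem_support.mpr hc⟩⟩
  exact ⟨e, by rw [← Set.ncard_coe_finset, e, ncard_cyc]⟩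

theorem len_eq_one_iff {c : α} : len x c = 1 ↔ x c = c :=
  Function.minimalPeriod_eq_one_iff_isFixedPt

theorem not_unique_of_equal_cycles (hx : ∃ k, orderOf x = 2 ^ k) {a b : α} (hl : 2 ≤ len x a)
    (hlb : len x b = len x a) (hb : b ∉ cyc x a) : ¬ ∃! P : Sylow 2 (Perm α), x ∈ P := by
  classical
  rintro ⟨P, hP, hu⟩
  obtain ⟨n, hn⟩ := hx
  have heven : 2 ∣ len x a := by
    obtain ⟨m, -, hm⟩ := (Nat.dvd_prime_pow Nat.prime_two).mp (hn ▸ len_dvd_orderOf x a)
    rcases Nat.eq_zero_or_pos m with rfl | hm0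
    · simp at hm; omega
    · exact hm ▸ dvd_pow_self 2 hm0.ne'
  have hne : ∀ j k : ℤ, (x ^ j) a ≠ (x ^ k) b := fun j k e => hb ⟨-k + j, by
    rw [zpow_add, Perm.mul_apply, e, ← Perm.mul_apply, ← zpow_add, neg_add_cancel, zpow_zero, Perm.one_apply]⟩
  have hpar : ∀ {c : α}, len x c = len x a → ∀ j k : ℤ, (x ^ (2 * j + 1)) c ≠ (x ^ (2 * k)) c := by
    intro c hc j k e
    have h2 : (2 : ℤ) ∣ (2 * j + 1) - 2 * k :=
      dvd_trans (by exact_mod_cast (hc.symm ▸ heven : 2 ∣ len x c)) (zpow_apply_congr.mp e)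
    omega
  let v : α → α := fun p =>
    if h : ∃ k : ℤ, (x ^ (2 * k + 1)) a = p then (x ^ (2 * h.choose + 1)) b
    else if h' : ∃ k : ℤ, (x ^ (2 * k + 1)) b = p then (x ^ (2 * h'.choose + 1)) a else p
  have hva : ∀ k : ℤ, v ((x ^ (2 * k + 1)) a) = (x ^ (2 * k + 1)) b := by
    intro k
    have h : ∃ j : ℤ, (x ^ (2 * j + 1)) a = (x ^ (2 * k + 1)) a := ⟨k, rfl⟩
    show dite _ _ _ = _
    rw [dif_pos h, zpow_apply_congr, hlb]
    exact zpow_apply_congr.mp h.choose_spec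
  have hvb : ∀ k : ℤ, v ((x ^ (2 * k + 1)) b) = (x ^ (2 * k + 1)) a := by
    intro k
    have h : ∃ j : ℤ, (x ^ (2 * j + 1)) b = (x ^ (2 * k + 1)) b := ⟨k, rfl⟩
    show dite _ _ _ = _
    rw [dif_neg (fun h' => hne _ _ h'.choose_spec), dif_pos h, zpow_apply_congr, ← hlb]
    exact zpow_apply_congr.mp h.choose_spec
  have hvf : ∀ {p : α}, (∀ k : ℤ, (x ^ (2 * k + 1)) a ≠ p) → (∀ k : ℤ, (x ^ (2 * k + 1)) b ≠ p) → v p = p := by
    intro p h h'
    show dite _ _ _ = _
    rw [dif_neg (by simpa using h), dif_neg (by simpa using h')]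
  have hinv : Function.Involutive v := by
    intro p
    by_cases h : ∃ k : ℤ, (x ^ (2 * k + 1)) a = p
    · obtain ⟨k, rfl⟩ := h; rw [hva, hvb]
    by_cases h' : ∃ k : ℤ, (x ^ (2 * k + 1)) b = p
    · obtain ⟨k, rfl⟩ := h'; rw [hvb, hva]
    push Not at h h'
    rw [hvf h h', hvf h h']
  let u : Perm α := hinv.toPerm v
  have huu : u * u = 1 := Equiv.ext fun p => hinv p
  set u' : Perm α := x * u * x⁻¹ with hu'
  have hxx : x * u' * x⁻¹ = u := by
    apply Equiv.ext
    intro p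
    rw [hu', show x * (x * u * x⁻¹) * x⁻¹ = x ^ (2 : ℤ) * u * x ^ (-2 : ℤ) by rw [zpow_neg, zpow_two]; group]
    simp only [Perm.mul_apply]
    show (x ^ (2 : ℤ)) (v ((x ^ (-2 : ℤ)) p)) = v p
    by_cases h : ∃ k : ℤ, (x ^ (2 * k + 1)) a = p
    · obtain ⟨k, rfl⟩ := h
      rw [← Perm.mul_apply, ← zpow_add, show (-2 : ℤ) + (2 * k + 1) = 2 * (k - 1) + 1 by ring, hva, hva,
        ← Perm.mul_apply, ← zpow_add]
      ring_nf
    by_cases h' : ∃ k : ℤ, (x ^ (2 * k + 1)) b = p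
    · obtain ⟨k, rfl⟩ := h'
      rw [← Perm.mul_apply, ← zpow_add, show (-2 : ℤ) + (2 * k + 1) = 2 * (k - 1) + 1 by ring, hvb, hvb,
        ← Perm.mul_apply, ← zpow_add]
      ring_nf
    push Not at h h'
    rw [hvf h h', hvf (fun k e => h (k + 1) ?_) (fun k e => h' (k + 1) ?_), ← Perm.mul_apply, ← zpow_add]
    · simp
    all_goals
      rw [show 2 * (k + 1) + 1 = 2 + (2 * k + 1) by ring, zpow_add, Perm.mul_apply, e, ← Perm.mul_apply, ← zpow_add]
      simp
  have hu'u' : u' * u' = 1 := by rw [hu', show x * u * x⁻¹ * (x * u * x⁻¹) = x * (u * u) * x⁻¹ by group, huu]; group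
  have hdisj : u.Disjoint u' := by
    intro p
    by_cases h : ∃ k : ℤ, (x ^ (2 * k + 1)) a = p ∨ (x ^ (2 * k + 1)) b = p
    · refine Or.inr ?_
      obtain ⟨k, hk⟩ := h
      rw [hu', Perm.mul_apply, Perm.mul_apply]
      show x (v (x⁻¹ p)) = p
      have hs : ∀ c, (x ^ (2 * k + 1)) c = p → x⁻¹ p = (x ^ (2 * k)) c := by
        intro c e
        rw [← e, ← zpow_neg_one, ← Perm.mul_apply, ← zpow_add]
        ring_nf
      rw [hvf (fun j e => ?_) (fun j e => ?_)]
      · simp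
      · rcases hk with hk | hk
        · exact hpar rfl j k (e.trans (hs a hk))
        · exact hne _ _ (e.trans (hs b hk))
      · rcases hk with hk | hk
        · exact hne _ _ (e.trans (hs a hk)).symm
        · exact hpar hlb j k (e.trans (hs b hk))
    · push Not at h
      exact Or.inl (hvf (fun k => (h k).1) (fun k => (h k).2))
  have hxP : IsPGroup 2 (zpowers x) := P.2.to_le (zpowers_le.mpr hP)
  set M : Subgroup (Perm α) := zpowers u ⊔ zpowers u' with hM
  have hMp : IsPGroup 2 M := IsPGroup.to_sup_of_normal_left' (isPGroup_zpowers_of_sq huu)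
    (isPGroup_zpowers_of_sq hu'u') (zpowers_le.mpr (centralizer_le_normalizer _ (by
      rw [mem_centralizer_iff]
      rintro w ⟨j, rfl⟩
      exact (hdisj.commute.zpow_left j).eq)))
  have hxM : x ∈ normalizer (M : Set (Perm α)) := by
    have hmap : M.map (MulAut.conj x).toMonoidHom = M := by
      rw [hM, Subgroup.map_sup, MonoidHom.map_zpowers, MonoidHom.map_zpowers]
      simp only [MulEquiv.coe_toMonoidHom, MulAut.conj_apply]
      rw [← hu', hxx, sup_comm]
    rw [Subgroup.mem_normalizer_iff]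
    intro w
    constructor
    · intro hw; rw [← hmap]; exact ⟨w, hw, rfl⟩
    · intro hw
      rw [← hmap] at hw
      obtain ⟨w', hw', e⟩ := hw
      simp only [MulEquiv.coe_toMonoidHom, MulAut.conj_apply] at e
      rwa [← mul_left_cancel (mul_right_cancel e)]
  obtain ⟨R, hR⟩ := (IsPGroup.to_sup_of_normal_left' hMp hxP (zpowers_le.mpr hxM)).exists_le_sylow
  have hRP : R = P := hu R (hR (le_sup_right (a := M) (mem_zpowers x)))
  have huP : u ∈ (P : Subgroup (Perm α)) := hRP ▸ hR (le_sup_left (b := zpowers x) (le_sup_left (b := zpowers u') (mem_zpowers u)))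
  have hmov : x a ≠ a := fun e => by rw [len_eq_one_iff.mpr e] at hl; omega
  set σ : Perm α := x.cycleOf a with hσ
  have hσmem : σ ∈ x.cycleFactorsFinset := Perm.cycleOf_mem_cycleFactorsFinset_iff.mpr (Perm.mem_support.mpr hmov)
  have hσP : σ ∈ (P : Subgroup (Perm α)) := by
    refine mem_of_commute hP hu (IsPGroup.of_card_dvd_pow (n := n) ?_) ?_
    · rw [Nat.card_zpowers, (Perm.mem_cycleFactorsFinset_iff.mp hσmem).1.orderOf, (cycleOf_facts hmov).2, ← hn]
      exact len_dvd_orderOf x a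
    · exact (Perm.self_mem_cycle_factors_commute hσmem).eq
  have hσa : ∀ k : ℤ, σ ((x ^ k) a) = (x ^ (k + 1)) a := by
    intro k
    rw [hσ, Perm.SameCycle.cycleOf_apply ⟨k, rfl⟩, add_comm, zpow_add, Perm.mul_apply, zpow_one]
  have hσb : ∀ k : ℤ, σ ((x ^ k) b) = (x ^ k) b := by
    intro k
    rw [hσ, Perm.cycleOf_apply_of_not_sameCycle]
    rintro ⟨j, hj⟩
    exact hne j k hj
  have hueven : ∀ k : ℤ, u ((x ^ (2 * k)) a) = (x ^ (2 * k)) a := fun k =>
    hvf (fun j e => hpar rfl j k e) (fun j e => hne _ _ e.symm)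
  obtain ⟨k, hk⟩ := IsPGroup.iff_orderOf.mp P.2 ⟨_, mul_mem huP hσP⟩
  rw [Subgroup.orderOf_mk] at hk
  set g := u * σ
  have h0 : ∀ j : ℤ, g ((x ^ (2 * j)) a) = (x ^ (2 * j + 1)) b := fun j => by
    show u (σ _) = _; rw [hσa]; exact hva j
  have h1 : ∀ j : ℤ, g ((x ^ (2 * j + 1)) b) = (x ^ (2 * j + 1)) a := fun j => by
    show u (σ _) = _; rw [hσb]; exact hvb j
  have h2 : ∀ j : ℤ, g ((x ^ (2 * j + 1)) a) = (x ^ (2 * (j + 1))) a := fun j => by
    show u (σ _) = _
    rw [hσa, show 2 * j + 1 + 1 = 2 * (j + 1) by ring]; exact hueven _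
  have hcyc : ∀ m : ℕ, (m % 3 = 0 ∧ ∃ j : ℤ, (g ^ m) a = (x ^ (2 * j)) a) ∨
      (m % 3 = 1 ∧ ∃ j : ℤ, (g ^ m) a = (x ^ (2 * j + 1)) b) ∨
      (m % 3 = 2 ∧ ∃ j : ℤ, (g ^ m) a = (x ^ (2 * j + 1)) a) := by
    intro m
    induction m with
    | zero => exact Or.inl ⟨rfl, 0, by simp⟩
    | succ m ih =>
      rw [pow_succ', Perm.mul_apply]
      rcases ih with ⟨hm, j, hj⟩ | ⟨hm, j, hj⟩ | ⟨hm, j, hj⟩
      · exact Or.inr (Or.inl ⟨by omega, j, by rw [hj, h0]⟩)
      · exact Or.inr (Or.inr ⟨by omega, j, by rw [hj, h1]⟩)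
      · exact Or.inl ⟨by omega, j + 1, by rw [hj, h2]⟩
  have hfix : (g ^ 2 ^ k) a = a := by rw [← hk, pow_orderOf_eq_one]; rfl
  rcases hcyc (2 ^ k) with ⟨hm, -⟩ | ⟨-, j, hj⟩ | ⟨-, j, hj⟩
  · exact absurd (Nat.prime_three.dvd_of_dvd_pow (Nat.dvd_of_mod_eq_zero hm)) (by norm_num)
  · exact hne 0 (2 * j + 1) (by rw [zpow_zero, Perm.one_apply]; exact hfix.symm.trans hj)
  · exact hpar rfl j 0 (by rw [mul_zero, zpow_zero, Perm.one_apply]; exact (hfix.symm.trans hj).symm)

theorem existsUnique_iff (hx : ∃ k, orderOf x = 2 ^ k) :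
    (∃! P : Sylow 2 (Perm α), x ∈ P) ↔ (Fintype.card α ≤ x.support.card + 2 ∧ x.cycleType.Nodup) := by
  classical
  obtain ⟨n, hn⟩ := hx
  have hfixset : {c | len x c = 1} = ((x.supportᶜ : Finset α) : Set α) := by
    ext c; simp [len_eq_one_iff]
  have hnodup : x.cycleType.Nodup ↔ ∀ c d, 2 ≤ len x c → len x d = len x c → d ∈ cyc x c := by
    rw [Perm.cycleType_def]
    constructor
    · intro hnd c d hc hdc
      have hcm : x c ≠ c := fun e => by rw [len_eq_one_iff.mpr e] at hc; omega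
      have hdm : x d ≠ d := fun e => by rw [len_eq_one_iff.mpr e] at hdc; omega
      have := Multiset.inj_on_of_nodup_map hnd (x.cycleOf c)
        (Perm.cycleOf_mem_cycleFactorsFinset_iff.mpr (Perm.mem_support.mpr hcm)) (x.cycleOf d)
        (Perm.cycleOf_mem_cycleFactorsFinset_iff.mpr (Perm.mem_support.mpr hdm))
        (by simp only [Function.comp_apply]; rw [(cycleOf_facts hcm).2, (cycleOf_facts hdm).2, hdc])
      rw [← (cycleOf_facts hcm).1, this, (cycleOf_facts hdm).1]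
      exact self_mem_cyc x d
    · intro h
      refine Multiset.Nodup.map_on (fun s hs t ht e => ?_) x.cycleFactorsFinset.nodup
      simp only [Function.comp_apply] at e
      obtain ⟨c, hc⟩ := (Perm.mem_cycleFactorsFinset_iff.mp hs).1.nonempty_support
      obtain ⟨d, hd⟩ := (Perm.mem_cycleFactorsFinset_iff.mp ht).1.nonempty_support
      have es := Perm.cycle_is_cycleOf hc hs
      have et := Perm.cycle_is_cycleOf hd ht
      have hcm : x c ≠ c := Perm.mem_support.mp (Perm.mem_cycleFactorsFinset_support_le hs hc)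
      have hdm : x d ≠ d := Perm.mem_support.mp (Perm.mem_cycleFactorsFinset_support_le ht hd)
      rw [es, et, (cycleOf_facts hcm).2, (cycleOf_facts hdm).2] at e
      have h2 : 2 ≤ len x c := by
        have := len_pos x c
        have : len x c ≠ 1 := fun e' => hcm (len_eq_one_iff.mp e')
        omega
      rw [es, et]
      exact Perm.SameCycle.cycleOf_eq (h c d h2 e.symm)
  constructor
  · intro hu
    refine ⟨?_, hnodup.mpr fun c d hc hdc => by_contra fun hd => not_unique_of_equal_cycles ⟨n, hn⟩ hc hdc hd hu⟩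
    by_contra hlt
    have : 2 < (x.supportᶜ : Finset α).card := by rw [Finset.card_compl]; omega
    obtain ⟨a, b, c, ha, hb, hc, hab, hac, hbc⟩ := Finset.two_lt_card_iff.mp this
    simp only [Finset.mem_compl, Perm.mem_support, not_not] at ha hb hc
    exact not_unique_of_fixed hab hac hbc ha hb hc hu
  · rintro ⟨hf, hnd⟩
    refine existsUnique_of_good ⟨fun c => ?_, hnodup.mp hnd, ?_⟩
      (IsPGroup.of_card (n := n) (by rw [Nat.card_zpowers, hn]))
    · obtain ⟨m, -, hm⟩ := (Nat.dvd_prime_pow Nat.prime_two).mp (hn ▸ len_dvd_orderOf x c)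
      exact ⟨m, hm⟩
    · rw [hfixset, Set.ncard_coe_finset, Finset.card_compl]; omega

end CfsgLib.PermSylowTwo
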